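import Cfsg.Agent.Lib.Cert.HS.M
import Cfsg.Agent.Lib.Cert.HSp.Pz
import Cfsg.Agent.Lib.Cert.Sch4

set_option autoImplicit false
set_option maxRecDepth 100000

namespace Cfsg.Agent.Ct.HSs.C2

open Cfsg.Agent.PC

open Cfsg.Agent.Fi Cfsg.Agent.Ct
def Ef_t : TN := (TN.node (TN.node (TN.node (TN.leaf (nat_lit 0x1921f88d358653936d0d42c611786625895844fe3c51c1f8812bd5214110149314bd08131048721b480c0121ac1d04615d1f3ba06781fa7ace46ed5f2e4404cc425b43c114a324088329cc0d1c4604fc0c9476d8df2d8980b84b45c306986c0a99e3459662190098b4499255f0ce59976080cc5b8221cd19468765581c1f0f620c6807ca8068704a13e0592d4a814094383cc1243912041062c4fa3d0d3360dc030d40a458028c62f8ac2c8082983b2685b2108a1bc781a8041885c1504e0383e0d82c0181800800a26a9aee9b9aa3d9b602801fc7eabd81a8488a95a7e5aae699a5ea1961d273a8794ebfa36a4719c4919c09ee798b66f68a719d6b3ad9848f9e45e9e277e57a729297578a2d7677568592499fa397c18799ab5522454e9b35621e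55a776796189e25a89108c21d404fc7dd976dd3e83cee721bea98ecac2ae7d6acaa8e885dff6e6427adcb7bdd879e64980ea97e4f76de875d74a418da39cd7b60aa0a803127c8214d36df384ce68d582414b42d93d2f8ae9c9a18a8a453d99854a064192271d152d20906686c0c35109298a54941d42314235c863924c2124a426293851646a328b87a54c7e66dbd62e3a1a17e5c0bb841a98d9393053538d0d43c972546f1805e19588348ca568815711544e204bd3114963139af40e1b27a18268981d06a1644483204781f86d16a4cd5f374df6ec425bc3e4783a33c8a470c931dc26053769871504406a9ac12c2e6906c0c8300b19c0a1943f98e3e8f84b52b5f09108972330205b16620d19540785507c070f61ccbd4a4ac3d146079230612649025050f30e03642851418102cc26068f0360b83500c34056150352a8a82c0a6020a21205d2388819876118620105a0284c0183c0482a0381600002)) (TN.leaf (nat_lit 0xa86b7aaa82af6b3ad61a9fe59aea68a261d792bfa7e9d7ae8ba5e0685677a3dcca66a7a1e85ae254abdd49ee5da45e3745946423b612a88f9dc6d59283679896ad95e8094e3788e3892d627e56090d4a999489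b64c945a54b9d987d1c7256845a5b93d5f8bea5ac1f73ea933d9403d25f3b1ffa519f6bce8825977ee47865a64f91471cdea6d5636aa29d5e1362644363173a7c32a7375a8c47e2b7bcfe480c22f9bd6ecba66e632d8b480d2b2b91a7d235290eb8158c6dd997f6709826e3219c4b4aa25a6a251755b1663049e49d815cd6e5c17e212285f082922448855d1f07a7a10f545531d5399023c22066192107c8791814d39c8c179318c98b6b4735dcd5359c272e2c6a052899f044c4e555db1dd0938101121057109a8584684a0e110d110a0a686004dc920f9067b0d3799de48925374f133c367498e15c327017b6f8306e02e6c9b028ca76a854620632c5a22cca15e09d3f024619823902323d341b1460796a5901c1fd5a5613d42d4f4a4181bc8a1ac16511422a53a4c81b0f03a31cac460104404d039023e0f23b82d3885a1603933008310bc2e0410ac0609c982440421880174701a0020285012800048340a0200500ca0ebca629a9027faca0392aac9f6a87c1ec881e989e93ae2baa59d8a765278a8174dc6711cbafe8dad6ab922786c26e9ca0e9d26c61db65e9bb8f9ce5d9789665b95657a41df5b966aba7a8f24481ab6))) (TN.leaf (nat_lit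 0x2f92d8504a6d8f4340458284268dfe399f27b1f00f9e8579e2769d855cf21bdb1645ce2e5c00c9353f9835f8c719837289515f5a86247854da02c8265a49c62828610314f8222397a1c1475a81e588200e12b478a84294e1c88a33c18449192d9164f1384b81a168120b91a05c141382b3e100038f13b0403783c0287e2d40c308951582c134982800624080210041706c14c5016002118340e8000901c04008a46bda7aa2aaa4193a93abdf8adaa981a80ae26eaea5a88e7a76a74ac6bfa3e76721d28b1c470aa49f27ea6270a329478e78a81dc7e9846f17a791a377d74a72037557282dbfac98b6e62670237566b5535877f93a915307c631542868adeb921d6a6d1087e1d6012c6d5944f9b783e0d94d77a98ec966018e8e89aaac3994959233585b08a5d879e629ccd897e6ca59e889257a20ca73cc960e8a31284a0a46946662f24b84617431ec414b06ada92acae9859967d9d53da1286142718e6411d9349a8f66872e1a510f79908c8265c9516b5bd6d5c54a4a1f258def20116552431f95a44a2e66e3f5a1f53897e394648493d8e139181351a63441e18171663045a2e8fa3418d1e8e05705054a20139b2131094bdaf40cc2120974804b5f462154a23be04109fc7d943519183543e1c1e035cdf0e91e24489741cd31dc6401270cdba4883c2dc2e261ac6902c69c2a1b0a53c19709992620b23f4241d4cf19978084cd21c6f1c95e5581c468761e093208da214a606133239403d1360512a49036048f3041144390a3e4fe058283a80c370b83480a160352fc082d0ac2a044278940788b0887c0106a1185e15852008400e0300001a038069d2b79fa55af6508dab0aadf8abea8a6a6f8ede2781faa99dc90e06a4a2295dee995eaa1286a0683)))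 (TN.node (TN.leaf (nat_lit 0xaea5f6f25d93abe70e6ba95e49c66898a8b999789f6795d246a3eb95cab49da186ee4896160a5d4d6d548a8df7ac9a58ca3087e2c63e0546180a415f8bd9086a4c6fa14500f67cdd47fceca52293a8ee82dc1a72ac8e5f483de8a30dea21f038a6ca829e36298445d875a0c5dd20739c7318c8735c49cdfd85a7a92cbc66e3f46cd56812b42cb769a35399ae5a1896dca03098527a1c8acab4b59d619955b224250b33166074e5a94888519825a99e2888658a448847e550804515a1e13c266414e23c5b8ac1a2123d5502314a2946022d134b98b6b45c328b4169d01591c6ce26149564c5db1f44e6ac4c41901269053f8482f8a88413f128b1802088084268840798e07b0dc0f9de0f1b1348a70e0cc499c87297b658323e9b80c0346a5245f4f11d944634f83453759998648264094f2597e0b4290a93a4cd7059084079585710f071522b824068701a85f1b9421501611d341b5284883a4786645810431083c8fc18c0e3a0e4368d6160ce0d8b8300ba0209323891270740180c2087a1c8181901205050110200082e0880002804a26ae9c244ab24f90256af2b67e201812828dde29e1de8e27b89a61751d2a3a0a8b6bf725c6a91c270246a669e94da29beba9cd867f2687d66498a9596e0397d74ac1bf9dd72ad5687c9da9f2b8562b27f9dd5369aa8db37c1a85528b671f6a59994ee204f50240537581955012379e0ca31793b2a6976a98fa6a3a2aa8a26792a326d1cb39de883de4a80eaa723d921d868292a41d0738c87b687a10c4a027e9554838d652e9ee8d5826b8f86aa302a95d9d1d62922a51625282156389c6498c52c9e9b1846c0c3538925ea092325894170218d75aa4c239b958a16385a5542421ea2e4515a5fa3b62dbc2f59b50a12))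 (TN.leaf (nat_lit 0x98a4651a3883537566304798346918a7d12442a2879143f101781966153f9c237709bf908edac5645adfc7056d3ace47caa637aa4372a1768daa3a16944d679a94338cca2cfb981cca14c4a2286829fb824bc995b89a0b8306762c9ac2c18e428a668902568a2281988514f649906a09a3d4f39ae138b4945148e99a5c9788a220e3939f97fc84932002ec803552e67a333495424076654701a8688e97f4c9098449d3bd388d4825085e5705c308631690d488588b8548aa2843e1c8922245d256994113c4a6821915e1a744991198b624f04ee057dc87101f45c43e7b9ea7903c7715f55879759d40d834319c84a9b3149bc58db40b8b46b9aa0b06d0a84c690286719a0e53d630f909180089525f0205d1723a5684d1600703b1e8d15401a1c94c060ad52948058644a4144c12c499203fd1c2f85041ca84100e3d844030e6380d81f49f328c8020102d8ae2a8a4018962488c0107e1d06e198600083012042000320981e0480aa5658942a3ab23a9b270a02b68ddf6a22a4ae606a11e07728aa5abf85e5fa3a8ca62a69ea9e796ae955d5a19b4835df96ab074eb261a198f1eb97205a46629cabc5ca7f94aba889a692964581f96edfc52266ad1f4aad414c924551c947179509d0939e743a1c65269a4cfa66da483a773ba01a826180a093a2406f245aa238390e0718e2994dc886833629c9d69a358d463a7d9be24321cc5662d7b9be5d0c4711fa90d6c3da78510cd6b95a59cac932103aca46499c84d9852e1a678cb7598c268ab9a8962f5212e8af232295d9c2959705b9b82189f6ae4820a46369306b1cb34e2e29cb11d13b65e3e225b289a3524862534604d8c18c95c178fd1f52849a30435811ea2a15069191061a910879231d9084510341448))))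
noncomputable def Ef (i : ℕ) : ℕ := get9 Ef_t (nat_lit 10) (nat_lit 1023) i
noncomputable def E (j c : ℕ) : ℕ := Ef (Nat.add (Nat.mul j (nat_lit 352)) c)
def iw (i : ℕ) : ℕ := Nat.land (Nat.shiftRight (nat_lit 0x1ac688) (Nat.mul (nat_lit 3) i)) (nat_lit 7)
def ws : List (List ℕ × ℕ) := [([nat_lit 0, nat_lit 1, nat_lit 0, nat_lit 1], (nat_lit 0)), ([nat_lit 0, nat_lit 2, nat_lit 0, nat_lit 2, nat_lit 0, nat_lit 2, nat_lit 0, nat_lit 2, nat_lit 0, nat_lit 2], (nat_lit 1)), ([nat_lit 1, nat_lit 2, nat_lit 1, nat_lit 2, nat_lit 1, nat_lit 2], (nat_lit 0)), ([nat_lit 0, nat_lit 1, nat_lit 2, nat_lit 0, nat_lit 1, nat_lit 2, nat_lit 0, nat_lit 1, nat_lit 2, nat_lit 0, nat_lit 1, nat_lit 2, nat_lit 0, nat_lit 1, nat_lit 2], (nat_lit 0)), ([nat_lit 0, nat_lit 3, nat_lit 0, nat_lit 3], (nat_lit 0)), ([nat_lit 1, nat_lit 3, nat_lit 1, nat_lit 3], (nat_lit 0)), ([nat_lit 2, nat_lit 3, nat_lit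 2, nat_lit 3, nat_lit 2, nat_lit 3, nat_lit 2, nat_lit 3], (nat_lit 0)), ([nat_lit 0, nat_lit 1, nat_lit 3, nat_lit 0, nat_lit 1, nat_lit 3], (nat_lit 0)), ([nat_lit 0, nat_lit 2, nat_lit 3, nat_lit 0, nat_lit 2, nat_lit 3, nat_lit 0, nat_lit 2, nat_lit 3, nat_lit 0, nat_lit 2, nat_lit 3, nat_lit 0, nat_lit 2, nat_lit 3], (nat_lit 0)), ([nat_lit 1, nat_lit 2, nat_lit 3, nat_lit 1, nat_lit 2, nat_lit 3, nat_lit 1, nat_lit 2, nat_lit 3], (nat_lit 1)), ([nat_lit 3, nat_lit 2, nat_lit 0, nat_lit 2, nat_lit 0, nat_lit 1, nat_lit 3, nat_lit 2, nat_lit 0, nat_lit 2, nat_lit 3, nat_lit 0, nat_lit 1, nat_lit 2, nat_lit 0, nat_lit 2, nat_lit 1, nat_lit 0], (nat_lit 1)), ([nat_lit 0, nat_lit 4, nat_lit 0, nat_lit 4, nat_lit 0, nat_lit 4], (nat_lit 1)), ([nat_lit 1, nat_lit 4, nat_lit 1, nat_lit 4, nat_lit 1, nat_lit 4], (nat_lit 0)), ([nat_lit 2, nat_lit 4, nat_lit 2, nat_lit 4, nat_lit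 2, nat_lit 4, nat_lit 2, nat_lit 4], (nat_lit 0)), ([nat_lit 3, nat_lit 4, nat_lit 3, nat_lit 4, nat_lit 3, nat_lit 4], (nat_lit 1)), ([nat_lit 0, nat_lit 1, nat_lit 4, nat_lit 0, nat_lit 1, nat_lit 4, nat_lit 0, nat_lit 1, nat_lit 4, nat_lit 0, nat_lit 1, nat_lit 4], (nat_lit 0)), ([nat_lit 0, nat_lit 2, nat_lit 4, nat_lit 0, nat_lit 2, nat_lit 4, nat_lit 0, nat_lit 2, nat_lit 4, nat_lit 0, nat_lit 2, nat_lit 4, nat_lit 0, nat_lit 2, nat_lit 4, nat_lit 0, nat_lit 2, nat_lit 4, nat_lit 0, nat_lit 2, nat_lit 4], (nat_lit 1)), ([nat_lit 0, nat_lit 3, nat_lit 4, nat_lit 0, nat_lit 3, nat_lit 4, nat_lit 0, nat_lit 3, nat_lit 4, nat_lit 0, nat_lit 3, nat_lit 4], (nat_lit 0)), ([nat_lit 1, nat_lit 2, nat_lit 4, nat_lit 1, nat_lit 2, nat_lit 4, nat_lit 1, nat_lit 2, nat_lit 4, nat_lit 1, nat_lit 2, nat_lit 4, nat_lit 1, nat_lit 2, nat_lit 4], (nat_lit 1)), ([nat_lit 1, nat_lit 3, nat_lit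 4, nat_lit 1, nat_lit 3, nat_lit 4, nat_lit 1, nat_lit 3, nat_lit 4, nat_lit 1, nat_lit 3, nat_lit 4], (nat_lit 0)), ([nat_lit 2, nat_lit 3, nat_lit 4, nat_lit 2, nat_lit 3, nat_lit 4, nat_lit 2, nat_lit 3, nat_lit 4, nat_lit 2, nat_lit 3, nat_lit 4, nat_lit 2, nat_lit 3, nat_lit 4, nat_lit 2, nat_lit 3, nat_lit 4, nat_lit 2, nat_lit 3, nat_lit 4], (nat_lit 1)), ([nat_lit 4, nat_lit 0, nat_lit 2, nat_lit 0, nat_lit 4, nat_lit 0, nat_lit 2, nat_lit 3, nat_lit 2, nat_lit 0, nat_lit 3], (nat_lit 0)), ([nat_lit 4, nat_lit 1, nat_lit 2, nat_lit 3, nat_lit 4, nat_lit 3, nat_lit 2, nat_lit 1, nat_lit 3, nat_lit 0, nat_lit 2, nat_lit 0, nat_lit 2, nat_lit 1], (nat_lit 1)), ([nat_lit 0, nat_lit 5, nat_lit 0, nat_lit 5], (nat_lit 0)), ([nat_lit 1, nat_lit 5, nat_lit 1, nat_lit 5, nat_lit 1, nat_lit 5, nat_lit 1, nat_lit 5], (nat_lit 0)), ([nat_lit 2, nat_lit 5, nat_lit 2, nat_lit 5, nat_lit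 2, nat_lit 5, nat_lit 2, nat_lit 5, nat_lit 2, nat_lit 5], (nat_lit 0)), ([nat_lit 3, nat_lit 5, nat_lit 3, nat_lit 5, nat_lit 3, nat_lit 5], (nat_lit 1)), ([nat_lit 4, nat_lit 5, nat_lit 4, nat_lit 5, nat_lit 4, nat_lit 5, nat_lit 4, nat_lit 5], (nat_lit 0)), ([nat_lit 0, nat_lit 1, nat_lit 5, nat_lit 0, nat_lit 1, nat_lit 5, nat_lit 0, nat_lit 1, nat_lit 5, nat_lit 0, nat_lit 1, nat_lit 5], (nat_lit 0)), ([nat_lit 0, nat_lit 2, nat_lit 5, nat_lit 0, nat_lit 2, nat_lit 5, nat_lit 0, nat_lit 2, nat_lit 5, nat_lit 0, nat_lit 2, nat_lit 5], (nat_lit 0)), ([nat_lit 0, nat_lit 3, nat_lit 5, nat_lit 0, nat_lit 3, nat_lit 5, nat_lit 0, nat_lit 3, nat_lit 5, nat_lit 0, nat_lit 3, nat_lit 5, nat_lit 0, nat_lit 3, nat_lit 5, nat_lit 0, nat_lit 3, nat_lit 5], (nat_lit 0)), ([nat_lit 0, nat_lit 4, nat_lit 5, nat_lit 0, nat_lit 4, nat_lit 5, nat_lit 0, nat_lit 4, nat_lit 5], (nat_lit 1)),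 ([nat_lit 1, nat_lit 2, nat_lit 5, nat_lit 1, nat_lit 2, nat_lit 5, nat_lit 1, nat_lit 2, nat_lit 5, nat_lit 1, nat_lit 2, nat_lit 5, nat_lit 1, nat_lit 2, nat_lit 5], (nat_lit 1)), ([nat_lit 1, nat_lit 3, nat_lit 5, nat_lit 1, nat_lit 3, nat_lit 5, nat_lit 1, nat_lit 3, nat_lit 5, nat_lit 1, nat_lit 3, nat_lit 5, nat_lit 1, nat_lit 3, nat_lit 5, nat_lit 1, nat_lit 3, nat_lit 5], (nat_lit 0)), ([nat_lit 1, nat_lit 4, nat_lit 5, nat_lit 1, nat_lit 4, nat_lit 5, nat_lit 1, nat_lit 4, nat_lit 5, nat_lit 1, nat_lit 4, nat_lit 5, nat_lit 1, nat_lit 4, nat_lit 5, nat_lit 1, nat_lit 4, nat_lit 5, nat_lit 1, nat_lit 4, nat_lit 5], (nat_lit 0)), ([nat_lit 2, nat_lit 3, nat_lit 5, nat_lit 2, nat_lit 3, nat_lit 5, nat_lit 2, nat_lit 3, nat_lit 5, nat_lit 2, nat_lit 3, nat_lit 5], (nat_lit 0)), ([nat_lit 2, nat_lit 4, nat_lit 5, nat_lit 2, nat_lit 4, nat_lit 5, nat_lit 2, nat_lit 4, nat_lit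 5, nat_lit 2, nat_lit 4, nat_lit 5, nat_lit 2, nat_lit 4, nat_lit 5, nat_lit 2, nat_lit 4, nat_lit 5], (nat_lit 0)), ([nat_lit 3, nat_lit 4, nat_lit 5, nat_lit 3, nat_lit 4, nat_lit 5, nat_lit 3, nat_lit 4, nat_lit 5, nat_lit 3, nat_lit 4, nat_lit 5, nat_lit 3, nat_lit 4, nat_lit 5], (nat_lit 1)), ([nat_lit 5, nat_lit 1, nat_lit 4, nat_lit 1, nat_lit 5, nat_lit 2, nat_lit 4, nat_lit 0, nat_lit 3, nat_lit 4, nat_lit 2], (nat_lit 0)), ([nat_lit 5, nat_lit 2, nat_lit 1, nat_lit 0, nat_lit 2, nat_lit 5, nat_lit 0, nat_lit 2, nat_lit 0, nat_lit 1, nat_lit 2, nat_lit 0], (nat_lit 0)), ([nat_lit 5, nat_lit 2, nat_lit 3, nat_lit 0, nat_lit 2, nat_lit 5, nat_lit 0, nat_lit 2, nat_lit 4, nat_lit 1, nat_lit 0, nat_lit 4, nat_lit 2, nat_lit 0], (nat_lit 0)), ([nat_lit 5, nat_lit 2, nat_lit 4, nat_lit 0, nat_lit 2, nat_lit 5, nat_lit 2, nat_lit 3, nat_lit 4, nat_lit 2, nat_lit 4, nat_lit 1,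 nat_lit 4], (nat_lit 0)), ([nat_lit 5, nat_lit 3, nat_lit 4, nat_lit 2, nat_lit 1, nat_lit 5, nat_lit 1, nat_lit 2, nat_lit 4, nat_lit 3, nat_lit 2, nat_lit 0, nat_lit 1, nat_lit 2, nat_lit 0], (nat_lit 1)), ([nat_lit 0, nat_lit 6, nat_lit 0, nat_lit 6, nat_lit 0, nat_lit 6], (nat_lit 0)), ([nat_lit 1, nat_lit 6, nat_lit 1, nat_lit 6, nat_lit 1, nat_lit 6, nat_lit 1, nat_lit 6, nat_lit 1, nat_lit 6], (nat_lit 1)), ([nat_lit 2, nat_lit 6, nat_lit 2, nat_lit 6], (nat_lit 0)), ([nat_lit 3, nat_lit 6, nat_lit 3, nat_lit 6, nat_lit 3, nat_lit 6, nat_lit 3, nat_lit 6, nat_lit 3, nat_lit 6], (nat_lit 0)), ([nat_lit 4, nat_lit 6, nat_lit 4, nat_lit 6], (nat_lit 0)), ([nat_lit 5, nat_lit 6, nat_lit 5, nat_lit 6, nat_lit 5, nat_lit 6, nat_lit 5, nat_lit 6, nat_lit 5, nat_lit 6], (nat_lit 1)), ([nat_lit 0, nat_lit 1, nat_lit 6, nat_lit 0, nat_lit 1, nat_lit 6, nat_lit 0, nat_lit 1, nat_lit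 6, nat_lit 0, nat_lit 1, nat_lit 6, nat_lit 0, nat_lit 1, nat_lit 6], (nat_lit 1)), ([nat_lit 0, nat_lit 2, nat_lit 6, nat_lit 0, nat_lit 2, nat_lit 6, nat_lit 0, nat_lit 2, nat_lit 6, nat_lit 0, nat_lit 2, nat_lit 6, nat_lit 0, nat_lit 2, nat_lit 6], (nat_lit 1)), ([nat_lit 0, nat_lit 3, nat_lit 6, nat_lit 0, nat_lit 3, nat_lit 6, nat_lit 0, nat_lit 3, nat_lit 6, nat_lit 0, nat_lit 3, nat_lit 6, nat_lit 0, nat_lit 3, nat_lit 6], (nat_lit 1)), ([nat_lit 0, nat_lit 4, nat_lit 6, nat_lit 0, nat_lit 4, nat_lit 6, nat_lit 0, nat_lit 4, nat_lit 6, nat_lit 0, nat_lit 4, nat_lit 6], (nat_lit 0)), ([nat_lit 0, nat_lit 5, nat_lit 6, nat_lit 0, nat_lit 5, nat_lit 6, nat_lit 0, nat_lit 5, nat_lit 6, nat_lit 0, nat_lit 5, nat_lit 6, nat_lit 0, nat_lit 5, nat_lit 6], (nat_lit 0)), ([nat_lit 1, nat_lit 2, nat_lit 6, nat_lit 1, nat_lit 2, nat_lit 6, nat_lit 1, nat_lit 2, nat_lit 6, nat_lit 1,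 nat_lit 2, nat_lit 6, nat_lit 1, nat_lit 2, nat_lit 6], (nat_lit 0)), ([nat_lit 1, nat_lit 3, nat_lit 6, nat_lit 1, nat_lit 3, nat_lit 6, nat_lit 1, nat_lit 3, nat_lit 6], (nat_lit 0)), ([nat_lit 1, nat_lit 4, nat_lit 6, nat_lit 1, nat_lit 4, nat_lit 6, nat_lit 1, nat_lit 4, nat_lit 6, nat_lit 1, nat_lit 4, nat_lit 6, nat_lit 1, nat_lit 4, nat_lit 6], (nat_lit 1)), ([nat_lit 1, nat_lit 5, nat_lit 6, nat_lit 1, nat_lit 5, nat_lit 6, nat_lit 1, nat_lit 5, nat_lit 6, nat_lit 1, nat_lit 5, nat_lit 6, nat_lit 1, nat_lit 5, nat_lit 6, nat_lit 1, nat_lit 5, nat_lit 6, nat_lit 1, nat_lit 5, nat_lit 6], (nat_lit 0)), ([nat_lit 2, nat_lit 3, nat_lit 6, nat_lit 2, nat_lit 3, nat_lit 6, nat_lit 2, nat_lit 3, nat_lit 6, nat_lit 2, nat_lit 3, nat_lit 6, nat_lit 2, nat_lit 3, nat_lit 6], (nat_lit 1)), ([nat_lit 2, nat_lit 4, nat_lit 6, nat_lit 2, nat_lit 4, nat_lit 6, nat_lit 2, nat_lit 4, nat_lit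 6, nat_lit 2, nat_lit 4, nat_lit 6], (nat_lit 0)), ([nat_lit 2, nat_lit 5, nat_lit 6, nat_lit 2, nat_lit 5, nat_lit 6, nat_lit 2, nat_lit 5, nat_lit 6], (nat_lit 0)), ([nat_lit 3, nat_lit 4, nat_lit 6, nat_lit 3, nat_lit 4, nat_lit 6, nat_lit 3, nat_lit 4, nat_lit 6, nat_lit 3, nat_lit 4, nat_lit 6, nat_lit 3, nat_lit 4, nat_lit 6], (nat_lit 0)), ([nat_lit 3, nat_lit 5, nat_lit 6, nat_lit 3, nat_lit 5, nat_lit 6, nat_lit 3, nat_lit 5, nat_lit 6, nat_lit 3, nat_lit 5, nat_lit 6, nat_lit 3, nat_lit 5, nat_lit 6, nat_lit 3, nat_lit 5, nat_lit 6, nat_lit 3, nat_lit 5, nat_lit 6, nat_lit 3, nat_lit 5, nat_lit 6], (nat_lit 0)), ([nat_lit 4, nat_lit 5, nat_lit 6, nat_lit 4, nat_lit 5, nat_lit 6, nat_lit 4, nat_lit 5, nat_lit 6, nat_lit 4, nat_lit 5, nat_lit 6, nat_lit 4, nat_lit 5, nat_lit 6, nat_lit 4, nat_lit 5, nat_lit 6], (nat_lit 0)), ([nat_lit 6, nat_lit 3, nat_lit 2, nat_lit 3,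 nat_lit 6, nat_lit 1, nat_lit 2, nat_lit 0, nat_lit 1, nat_lit 3, nat_lit 2, nat_lit 1], (nat_lit 0)), ([nat_lit 6, nat_lit 5, nat_lit 3, nat_lit 1, nat_lit 5, nat_lit 6, nat_lit 1, nat_lit 2, nat_lit 4, nat_lit 1, nat_lit 0, nat_lit 4, nat_lit 5, nat_lit 1, nat_lit 4, nat_lit 3], (nat_lit 1)), ([nat_lit 6, nat_lit 5, nat_lit 4, nat_lit 2, nat_lit 5, nat_lit 6, nat_lit 4, nat_lit 5, nat_lit 2, nat_lit 4, nat_lit 5, nat_lit 2, nat_lit 4, nat_lit 2], (nat_lit 0)), ([nat_lit 6, nat_lit 0, nat_lit 1, nat_lit 2, nat_lit 3, nat_lit 0, nat_lit 6, nat_lit 0, nat_lit 1, nat_lit 2, nat_lit 0, nat_lit 3], (nat_lit 0)), ([nat_lit 6, nat_lit 0, nat_lit 5, nat_lit 2, nat_lit 5, nat_lit 0, nat_lit 6, nat_lit 2, nat_lit 4, nat_lit 5, nat_lit 1, nat_lit 2, nat_lit 5, nat_lit 3], (nat_lit 1)), ([nat_lit 0, nat_lit 0], (nat_lit 0)), ([nat_lit 1, nat_lit 1], (nat_lit 0)), ([nat_lit 2, nat_lit 2],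 (nat_lit 0)), ([nat_lit 3, nat_lit 3], (nat_lit 0)), ([nat_lit 4, nat_lit 4], (nat_lit 0)), ([nat_lit 5, nat_lit 5], (nat_lit 0)), ([nat_lit 6, nat_lit 6], (nat_lit 0))]
noncomputable def f1 : ℕ → ℕ := permE (mT E (nat_lit 2)) iw (nat_lit 704) (nat_lit 7)
noncomputable def f2 : ℕ → ℕ := scE E (nat_lit 2) ws
theorem ca0 : Nat.beq (rng f1 (nat_lit 0) (nat_lit 704)) (nat_lit 0) = true := by decide +kernel
theorem cb0 : Nat.beq (rng f2 (nat_lit 0) (nat_lit 177)) (nat_lit 0) = true := by decide +kernel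
theorem cb177 : Nat.beq (rng f2 (nat_lit 177) (nat_lit 175)) (nat_lit 0) = true := by decide +kernel
theorem h1 : ∀ i < 704, f1 i = 0 := by
  have h := zero_lt_zero f1
  have h := zero_lt_add (a := (nat_lit 0)) (n := (nat_lit 704)) (b := (nat_lit 704)) h ca0 rfl
  exact h
theorem h2 : ∀ i < 352, f2 i = 0 := by
  have h := zero_lt_zero f2
  have h := zero_lt_add (a := (nat_lit 0)) (n := (nat_lit 177)) (b := (nat_lit 177)) h cb0 rfl
  have h := zero_lt_add (a := (nat_lit 177)) (n := (nat_lit 175)) (b := (nat_lit 352)) h cb177 rfl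
  exact h
theorem lok : LoK (Cfsg.Spor.HS) 2 := lok_mono HSp.top HSp.ub HSp.iv HSp.rl (M := 703) (N := 352) rfl (by decide +kernel) h1 h2
  (u := [nat_lit 0, nat_lit 3, nat_lit 2, nat_lit 4, nat_lit 0, nat_lit 6, nat_lit 5, nat_lit 0, nat_lit 6, nat_lit 0, nat_lit 4]) (v := [nat_lit 4, nat_lit 5, nat_lit 3, nat_lit 6, nat_lit 5, nat_lit 2, nat_lit 4, nat_lit 5, nat_lit 1, nat_lit 4, nat_lit 5, nat_lit 6, nat_lit 2, nat_lit 0, nat_lit 6, nat_lit 5]) (by decide +kernel) ((HSp.md).eq (by decide +kernel))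

end Cfsg.Agent.Ct.HSs.C2
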